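import Groth.Agent.H8Coh.VanishLocus
import Groth.Agent.EGA43.InjFibre.PullSections
import Mathlib.AlgebraicGeometry.Morphisms.Flat

/-!
# When does the pullback of a map of quasi-coherent modules vanish
-/

set_option autoImplicit false
set_option backward.isDefEq.respectTransparency false

universe u

open CategoryTheory CategoryTheory.Limits AlgebraicGeometry Opposite TopologicalSpace TensorProduct
open Groth.Agent.Coherent Groth.Agent.Flatn12

namespace Groth.Agent.Vanish28

theorem map_eq_zero_iff_of_natIso {C D : Type*} [Category C] [Category D] [HasZeroMorphisms D]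
    {F G : C ⥤ D} (e : F ≅ G) {X Y : C} (f : X ⟶ Y) : F.map f = 0 ↔ G.map f = 0 := by
  constructor <;> intro h
  · rw [← NatIso.naturality_1 e f, h]; simp
  · rw [← NatIso.naturality_2 e f, h]; simp

theorem map_eq_zero_iff_of_iso {C D : Type*} [Category C] [Category D] [HasZeroMorphisms C]
    [HasZeroMorphisms D] (T : C ⥤ D) {M N M' N' : C} (a : M' ≅ M) (b : N' ≅ N) (f : M ⟶ N)
    (g : M' ⟶ N') (h : g ≫ b.hom = a.hom ≫ f) : T.map g = 0 ↔ T.map f = 0 := by
  have h' : T.map g ≫ T.map b.hom = T.map a.hom ≫ T.map f := by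
    rw [← T.map_comp, h, T.map_comp]
  constructor <;> intro hz
  · rw [hz, zero_comp] at h'
    exact (cancel_epi (T.map a.hom)).1 (by rw [← h', comp_zero])
  · rw [hz, comp_zero] at h'
    exact (cancel_mono (T.map b.hom)).1 (by rw [h', zero_comp])

variable {Y : Scheme.{u}} {G F : Y.Modules} (σ : G ⟶ F)

/-- The pullback of a map to an affine scheme over an affine open vanishes iff the tensored map on
sections vanishes. -/
theorem pullback_SpecMap_eq_zero_iff [Coh.IsQCoh G] [Coh.IsQCoh F] {U : Y.Opens}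
    (hU : IsAffineOpen U) {S : CommRingCat.{u}} (φ : Γ(Y, U) ⟶ S) :
    letI := φ.hom.toAlgebra
    (Scheme.Modules.pullback (Spec.map φ ≫ hU.fromSpec)).map σ = 0 ↔
      ∀ m : Γ(G, U), (1 : S) ⊗ₜ[Γ(Y, U)] (σ.app U m : Γ(F, U)) = 0 := by
  let _ := φ.hom.toAlgebra
  have := isQCoh_restrict_fromSpec' G hU
  have := isQCoh_restrict_fromSpec' F hU
  let u₁ := (Scheme.Modules.restrictFunctor hU.fromSpec).map σ
  let v := moduleSpecΓFunctor.map u₁
  rw [map_eq_zero_iff_of_natIso (Scheme.Modules.pullbackComp (Spec.map φ) hU.fromSpec).symm σ,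
    Functor.comp_map,
    map_eq_zero_iff_of_iso (Scheme.Modules.pullback (Spec.map φ))
      ((Scheme.Modules.restrictFunctorIsoPullback hU.fromSpec).app G).symm
      ((Scheme.Modules.restrictFunctorIsoPullback hU.fromSpec).app F).symm u₁ _
      ((Scheme.Modules.restrictFunctorIsoPullback hU.fromSpec).inv.naturality σ),
    map_eq_zero_iff_of_iso (Scheme.Modules.pullback (Spec.map φ))
      (asIso (G.restrict hU.fromSpec).fromTildeΓ).symm
      (asIso (F.restrict hU.fromSpec).fromTildeΓ).symm ((tilde.functor _).map v) u₁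
      (by
        simp only [Iso.symm_hom, asIso_inv]
        rw [IsIso.eq_inv_comp, ← Category.assoc, IsIso.comp_inv_eq]
        exact (Scheme.Modules.fromTildeΓNatTrans.naturality u₁).symm),
    ← Functor.comp_map]
  refine (map_eq_zero_iff_of_natIso (tildePullbackIso φ) v).trans ?_
  have : (tilde.functor S).Faithful := tilde.fullyFaithfulFunctor.faithful
  have : (tilde.functor S).IsLeftAdjoint := ⟨_, ⟨tilde.adjunction⟩⟩
  rw [Functor.comp_map, Functor.map_eq_zero_iff]
  let L := TensorProduct.congr (LinearEquiv.refl Γ(Y, U) S) (secEquiv hU F)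
  have hv : ∀ m, (secEquiv hU F) (v m) = σ.app U (secEquiv hU G m) := fun m =>
    EGA43.InjFibre.secEquiv_natural hU σ m
  constructor
  · intro h m
    obtain ⟨n, rfl⟩ := (secEquiv hU G).surjective m
    rw [← hv]
    have h1 : (ModuleCat.extendScalars φ.hom).map v ((1 : S) ⊗ₜ[Γ(Y, U)] n) = 0 := by
      rw [h]
      rfl
    exact (congrArg L h1).trans (map_zero L)
  · intro h
    refine ModuleCat.hom_ext (LinearMap.ext fun z => ?_)
    refine TensorProduct.induction_on z ?_ ?_ ?_
    · exact map_zero _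
    · intro s n
      show s ⊗ₜ[Γ(Y, U)] v n = 0
      have h1 : (1 : S) ⊗ₜ[Γ(Y, U)] v n = 0 := L.injective ((congrArg ((1 : S) ⊗ₜ[Γ(Y, U)] ·) (hv n)).trans
        ((h _).trans (map_zero L).symm))
      have h2 : ∀ t : S, t ⊗ₜ[Γ(Y, U)] v n = 0 := fun t => by
        have h3 := congrArg (t • ·) h1
        simpa [TensorProduct.smul_tmul'] using h3
      exact h2 s
    · intro a b ha hb
      rw [map_add, ha, hb, map_add]

/-- A map of quasi-coherent modules killed by a flat covering family vanishes. -/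
theorem eq_zero_of_flat_cover [Coh.IsQCoh G] [Coh.IsQCoh F] {ι : Type*} (Z : ι → Scheme.{u})
    (c : ∀ i, Z i ⟶ Y) [∀ i, Flat (c i)] (hsurj : ∀ y : Y, ∃ (i : ι) (z : Z i), c i z = y)
    (h : ∀ i, (Scheme.Modules.pullback (c i)).map σ = 0) : σ = 0 := by
  have key : ∀ (U : Y.Opens) (hU : IsAffineOpen U) (m : Γ(G, U)), σ.app U m = (0 : Γ(F, U)) := by
    intro U hU m
    let x : Γ(F, U) := σ.app U m
    show x = 0
    let I : Ideal Γ(Y, U) := LinearMap.ker (LinearMap.toSpanSingleton Γ(Y, U) Γ(F, U) x)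
    suffices hI : I = ⊤ by
      have h1 : (1 : Γ(Y, U)) ∈ I := hI ▸ Submodule.mem_top
      simpa [I] using h1
    by_contra hne
    obtain ⟨P, hP, hIP⟩ := Ideal.exists_le_maximal I hne
    obtain ⟨i, z, hz⟩ := hsurj (hU.fromSpec ⟨P, hP.isPrime⟩)
    have hzU : c i z ∈ U := by
      rw [hz, ← SetLike.mem_coe, ← hU.range_fromSpec]
      exact ⟨_, rfl⟩
    obtain ⟨U', hU', hzU', e⟩ := exists_isAffineOpen_mem_and_subset (X := Z i) (x := z)
      (U := c i ⁻¹ᵁ U) hzU
    have h0 : (Scheme.Modules.pullback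
        (Spec.map ((c i).appLE U U' e) ≫ hU.fromSpec)).map σ = 0 := by
      rw [hU.SpecMap_appLE_fromSpec (c i) hU' e]
      exact H8Coh.pullback_map_comp_eq_zero σ _ _ (h i)
    let _ := ((c i).appLE U U' e).hom.toAlgebra
    have : Module.Flat Γ(Y, U) Γ(Z i, U') := (c i).flat_appLE hU hU' e
    have hm := (pullback_SpecMap_eq_zero_iff σ hU _).1 h0 m
    let g : (Γ(Y, U) ⧸ I) →ₗ[Γ(Y, U)] Γ(F, U) :=
      Submodule.liftQ I (LinearMap.toSpanSingleton Γ(Y, U) Γ(F, U) x) le_rfl
    have hg : Function.Injective g := by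
      rw [← LinearMap.ker_eq_bot, Submodule.ker_liftQ_eq_bot _ _ _ le_rfl]
    have h2 : (1 : Γ(Z i, U')) ⊗ₜ[Γ(Y, U)] (1 : Γ(Y, U) ⧸ I) = 0 := by
      apply Module.Flat.lTensor_preserves_injective_linearMap (M := Γ(Z i, U')) g hg
      rw [map_zero, LinearMap.lTensor_tmul]
      refine Eq.trans (congrArg ((1 : Γ(Z i, U')) ⊗ₜ[Γ(Y, U)] ·) ?_) hm
      exact LinearMap.toSpanSingleton_apply_one ..
    have h3 : (1 : Γ(Z i, U')) ∈ I.map (algebraMap Γ(Y, U) Γ(Z i, U')) := by
      rw [← Ideal.Quotient.eq_zero_iff_mem]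
      apply (Algebra.TensorProduct.quotIdealMapEquivTensorQuot Γ(Z i, U') I).injective
      rw [map_zero]
      exact h2
    let Q := hU'.primeIdealOf ⟨z, hzU'⟩
    have hQ : PrimeSpectrum.comap ((c i).appLE U U' e).hom Q = ⟨P, hP.isPrime⟩ := by
      refine (EGA43.InjFibre.comap_primeIdealOf (c i) hU hU' e hzU').trans
        (hU.fromSpec.isOpenEmbedding.injective ?_)
      rw [hU.fromSpec_primeIdealOf]
      exact hz
    refine Q.isPrime.ne_top ((Ideal.eq_top_iff_one _).2 (Ideal.map_le_iff_le_comap.2 ?_ h3))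
    exact hIP.trans_eq (congrArg PrimeSpectrum.asIdeal hQ).symm
  refine Scheme.Modules.hom_ext _ _ fun W => ?_
  ext a
  refine AmpleLib.sec_ext _ (σ.app W a) 0 fun y hy => ?_
  obtain ⟨U, hU, hyU, e⟩ := exists_isAffineOpen_mem_and_subset (U := W) hy
  refine ⟨U, e, hyU, ?_⟩
  rw [map_zero, ← app_resM]
  exact key U hU _

/-- Vanishing of a pullback descends along flat covering families. -/
theorem pullback_eq_zero_of_flat_cover [Coh.IsQCoh G] [Coh.IsQCoh F] {X : Scheme.{u}} (f : X ⟶ Y)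
    {ι : Type*} (Z : ι → Scheme.{u}) (c : ∀ i, Z i ⟶ X) [∀ i, Flat (c i)]
    (hsurj : ∀ x : X, ∃ (i : ι) (z : Z i), c i z = x)
    (h : ∀ i, (Scheme.Modules.pullback (c i ≫ f)).map σ = 0) :
    (Scheme.Modules.pullback f).map σ = 0 := by
  have := EGA43.InjFibre.isQCoh_pullback f G
  have := EGA43.InjFibre.isQCoh_pullback f F
  exact eq_zero_of_flat_cover _ Z c hsurj fun i =>
    (H8Coh.pullback_map_map_eq_zero_iff σ (c i) f).2 (h i)

end Groth.Agent.Vanish28
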