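import Groth.Agent.Vanish28.PullZero
import Groth.Agent.FlatMorDevissage.ProjectiveNhd
import Groth.Agent.FlatMorDevissage.FPFlat
import Groth.Agent.Props12.FlatOver
import Groth.Agent.EGA43.QcohFP
import Mathlib.AlgebraicGeometry.PullbackCarrier
import Mathlib.AlgebraicGeometry.Morphisms.Etale

/-!
# Charts cutting out the vanishing locus of a map into a flat finitely presented module

Near every point of the fibre over `p`, after an etale extension of the base, a flat chart on which the
condition of vanishing is cut out by an ideal: the content of the images of the sections.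
-/

set_option autoImplicit false
set_option backward.isDefEq.respectTransparency false

universe u

open CategoryTheory CategoryTheory.Limits AlgebraicGeometry Opposite TopologicalSpace TensorProduct
open Groth.Agent

namespace Groth.Agent.Vanish28

/-- An element of a module mapping to the ring over a projective module detects base change. -/
theorem exists_ideal_of_projective {R B S' : Type u} [CommRing R] [CommRing B] [CommRing S']
    [Algebra R S'] [Algebra B S'] (M : Type u) [AddCommGroup M] [Module B M]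
    [Module.Projective R (S' ⊗[B] M)] (E : Set M) :
    ∃ I : Ideal R, ∀ (C : Type u) [CommRing C] [Algebra R C],
      letI : Algebra B (C ⊗[R] S') :=
        (Algebra.TensorProduct.includeRight.toRingHom.comp (algebraMap B S')).toAlgebra
      (∀ m ∈ E, (1 : C ⊗[R] S') ⊗ₜ[B] m = 0) ↔ I ≤ RingHom.ker (algebraMap R C) := by
  classical
  let N := S' ⊗[B] M
  obtain ⟨s, hs⟩ := Module.projective_def.1 ‹Module.Projective R (S' ⊗[B] M)›
  refine ⟨Ideal.span {r | ∃ m ∈ E, ∃ j, s ((1 : S') ⊗ₜ[B] m) j = r}, fun C _ _ => ?_⟩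
  let _ : Algebra B (C ⊗[R] S') :=
    (Algebra.TensorProduct.includeRight.toRingHom.comp (algebraMap B S')).toAlgebra
  have hsmul : ∀ (b : B) (c : C) (x : S'), b • c ⊗ₜ[R] x = c ⊗ₜ[R] (b • x) := fun b c x => by
    rw [Algebra.smul_def b x]
    show ((1 : C) ⊗ₜ[R] algebraMap B S' b) * c ⊗ₜ[R] x = _
    rw [Algebra.TensorProduct.tmul_mul_tmul, one_mul]
  constructor
  · intro h
    rw [Ideal.span_le]
    rintro _ ⟨m₀, hm₀, j, rfl⟩
    let γ : N →+ C := (algebraMap R C).toAddMonoidHom.comp
      ((Finsupp.lapply j).comp s).toAddMonoidHom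
    have hγ : ∀ (r : R) (n : N), γ (r • n) = algebraMap R C r * γ n := fun r n => by
      simp [γ, map_smul]
    let g₀ : C →+ S' →+ M →+ C :=
      { toFun := fun c =>
          { toFun := fun x =>
              { toFun := fun m => c * γ (x ⊗ₜ[B] m)
                map_zero' := by simp
                map_add' := fun m m' => by simp [TensorProduct.tmul_add, mul_add] }
            map_zero' := by ext; simp
            map_add' := fun x x' => by ext; simp [TensorProduct.add_tmul, mul_add] }
        map_zero' := by ext; simp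
        map_add' := fun c c' => by ext; simp [add_mul] }
    let g : C ⊗[R] S' →+ M →+ C := TensorProduct.liftAddHom g₀ fun r c x => by
      ext m
      show (r • c) * γ (x ⊗ₜ[B] m) = c * γ ((r • x) ⊗ₜ[B] m)
      rw [← TensorProduct.smul_tmul', hγ, Algebra.smul_def]
      ring
    let h' : (C ⊗[R] S') ⊗[B] M →+ C := TensorProduct.liftAddHom g fun b t m => by
      induction t using TensorProduct.induction_on with
      | zero => simp
      | tmul c x =>
        rw [hsmul]
        show c * γ ((b • x) ⊗ₜ[B] m) = c * γ (x ⊗ₜ[B] (b • m))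
        rw [TensorProduct.smul_tmul]
      | add t t' ht ht' => simp [smul_add, map_add, ht, ht']
    have h1 := congrArg h' (h m₀ hm₀)
    rw [map_zero] at h1
    change (1 : C) * γ ((1 : S') ⊗ₜ[B] m₀) = 0 at h1
    rw [one_mul] at h1
    exact h1
  · intro h m hm
    let I' := Ideal.span {r | ∃ m ∈ E, ∃ j, s ((1 : S') ⊗ₜ[B] m) j = r}
    have hmem : (1 : S') ⊗ₜ[B] m ∈ I' • (⊤ : Submodule R N) := by
      refine (congrArg (· ∈ _) (hs ((1 : S') ⊗ₜ[B] m))).mp ?_
      rw [Finsupp.linearCombination_apply]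
      exact Submodule.sum_mem _ fun i _ =>
        Submodule.smul_mem_smul (Ideal.subset_span ⟨m, hm, i, rfl⟩) trivial
    let ι : S' →ₗ[B] C ⊗[R] S' :=
      { toFun := fun x => (1 : C) ⊗ₜ[R] x
        map_add' := fun x y => TensorProduct.tmul_add _ _ _
        map_smul' := fun b x => (hsmul b 1 x).symm }
    let L : N →ₗ[B] (C ⊗[R] S') ⊗[B] M := ι.rTensor M
    have key : ∀ (r : R), algebraMap R C r = 0 → ∀ n : N, L (r • n) = 0 := fun r hr n => by
      induction n using TensorProduct.induction_on with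
      | zero => simp
      | tmul x m' =>
        rw [TensorProduct.smul_tmul', LinearMap.rTensor_tmul]
        have : ι (r • x) = 0 := by
          show (1 : C) ⊗ₜ[R] (r • x) = 0
          rw [← TensorProduct.smul_tmul, Algebra.smul_def, hr, zero_mul, TensorProduct.zero_tmul]
        rw [this, TensorProduct.zero_tmul]
      | add x y hx hy => rw [smul_add, map_add, hx, hy, add_zero]
    have hL : L ((1 : S') ⊗ₜ[B] m) = 0 :=
      Submodule.smul_induction_on hmem (fun r hr n _ => key r (h hr) n)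
        (fun a b ha hb => by rw [map_add, ha, hb, add_zero])
    exact hL

variable {Y S : Scheme.{u}} (q : Y ⟶ S) {A : CommRingCat.{u}} (a₀ : Spec A ⟶ S)

/-- The base morphism of an algebra. -/
noncomputable abbrev aR (R : Type u) [CommRing R] [Algebra A R] : Spec (CommRingCat.of R) ⟶ S :=
  Spec.map (CommRingCat.ofHom (algebraMap A R)) ≫ a₀

variable {R : Type u} [CommRing R] [Algebra A R]

/-- The base change morphism between fibre products. -/
noncomputable abbrev bc {C : CommRingCat.{u}} (ψ : CommRingCat.of R ⟶ C) (g : Spec C ⟶ S)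
    (hg : Spec.map ψ ≫ aR a₀ R = g) : pullback q g ⟶ pullback q (aR a₀ R) :=
  pullback.lift (pullback.fst q g) (pullback.snd q g ≫ Spec.map ψ)
    (by rw [pullback.condition, Category.assoc, hg])

variable {G F : Y.Modules} (σ : G ⟶ F)

variable (R) in
/-- An open of the base change on which vanishing is cut out by an ideal, universally. -/
def IsChart (O : (pullback q (aR a₀ R)).Opens) (I : Ideal R) : Prop :=
  ∀ (C : CommRingCat.{u}) (ψ : CommRingCat.of R ⟶ C) (g : Spec C ⟶ S)
    (hg : Spec.map ψ ≫ aR a₀ R = g),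
    ∃ (Z : Scheme.{u}) (d : Z ⟶ pullback q g), Flat d ∧
      Set.range d = (bc q a₀ ψ g hg) ⁻¹' (O : Set ↥(pullback q (aR a₀ R))) ∧
      ((Scheme.Modules.pullback (d ≫ pullback.fst q g)).map σ = 0 ↔ I ≤ RingHom.ker ψ.hom)

/-- An etale affine scheme over the base change gives a chart. -/
theorem isChart_range [Coh.IsQCoh G] [Coh.IsQCoh F] {U : Y.Opens} (hU : IsAffineOpen U)
    (S' : Type u) [CommRing S'] [Algebra R S'] [Algebra Γ(Y, U) S']
    [Module.Projective R (S' ⊗[Γ(Y, U)] Γ(F, U))]
    (ℓ : Spec (CommRingCat.of S') ⟶ pullback q (aR a₀ R)) [Flat ℓ] [LocallyOfFinitePresentation ℓ]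
    (hℓ₁ : ℓ ≫ pullback.fst q (aR a₀ R) =
      Spec.map (CommRingCat.ofHom (algebraMap Γ(Y, U) S')) ≫ hU.fromSpec)
    (hℓ₂ : ℓ ≫ pullback.snd q (aR a₀ R) = Spec.map (CommRingCat.ofHom (algebraMap R S'))) :
    ∃ I : Ideal R, IsChart q a₀ R σ ⟨Set.range ℓ, ℓ.isOpenMap.isOpen_range⟩ I := by
  obtain ⟨I, hI⟩ := exists_ideal_of_projective (R := R) (B := Γ(Y, U)) (S' := S') Γ(F, U)
    (Set.range fun m : Γ(G, U) => (σ.app U m : Γ(F, U)))
  refine ⟨I, fun C ψ g hg => ?_⟩
  let _ : Algebra R C := ψ.hom.toAlgebra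
  let θ := CommRingCat.ofHom (algebraMap R S')
  let c := Spec.map (CommRingCat.ofHom (algebraMap Γ(Y, U) S')) ≫ hU.fromSpec
  let Z := pullback (Spec.map ψ) (Spec.map θ)
  have hc : c ≫ q = Spec.map θ ≫ aR a₀ R := by
    rw [show c = _ from hℓ₁.symm, show Spec.map θ = _ from hℓ₂.symm, Category.assoc, Category.assoc,
      pullback.condition]
  let d : Z ⟶ pullback q g := pullback.lift (pullback.snd _ _ ≫ c) (pullback.fst _ _)
    (by rw [Category.assoc, hc, ← pullback.condition_assoc, hg])
  have hr : IsPullback (bc q a₀ ψ g hg) (pullback.snd q g) (pullback.snd q (aR a₀ R)) (Spec.map ψ) := by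
    refine IsPullback.of_right ?_ (pullback.lift_snd _ _ _)
      (IsPullback.of_hasPullback q (aR a₀ R)).flip.flip
    rw [pullback.lift_fst, hg]
    exact IsPullback.of_hasPullback q g
  have hd : IsPullback d (pullback.snd (Spec.map ψ) (Spec.map θ)) (bc q a₀ ψ g hg) ℓ := by
    refine IsPullback.of_right ?_ ?_ hr.flip
    · rw [show d ≫ pullback.snd q g = pullback.fst _ _ from pullback.lift_snd _ _ _, hℓ₂]
      exact IsPullback.of_hasPullback (Spec.map ψ) (Spec.map θ)
    · apply pullback.hom_ext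
      · rw [Category.assoc, Category.assoc, pullback.lift_fst, pullback.lift_fst, hℓ₁]
      · rw [Category.assoc, Category.assoc, pullback.lift_snd, ← Category.assoc,
          pullback.lift_snd, hℓ₂, pullback.condition]
  refine ⟨Z, d, MorphismProperty.of_isPullback hd.flip inferInstance, ?_, ?_⟩
  · rw [← hd.isoPullback_hom_fst, Scheme.Hom.comp_base, TopCat.coe_comp, Set.range_comp,
      Set.range_eq_univ.2 hd.isoPullback.hom.surjective, Set.image_univ, Scheme.Pullback.range_fst]
    rfl
  · let e : Z ≅ Spec (CommRingCat.of (C ⊗[R] S')) := pullbackSpecIso R C S'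
    let _ : Algebra Γ(Y, U) (C ⊗[R] S') :=
      (Algebra.TensorProduct.includeRight.toRingHom.comp (algebraMap Γ(Y, U) S')).toAlgebra
    let φ : Γ(Y, U) ⟶ CommRingCat.of (C ⊗[R] S') := CommRingCat.ofHom (algebraMap Γ(Y, U) _)
    have he : e.inv ≫ d ≫ pullback.fst q g = Spec.map φ ≫ hU.fromSpec := by
      rw [show d ≫ pullback.fst q g = pullback.snd _ _ ≫ c from pullback.lift_fst _ _ _,
        ← Category.assoc, show e.inv ≫ pullback.snd (Spec.map ψ) (Spec.map θ) = _ from
          pullbackSpecIso_inv_snd R C S', ← Category.assoc, ← Spec.map_comp]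
      rfl
    refine Iff.trans ?_ ((hI C).trans Iff.rfl)
    rw [show (∀ m ∈ Set.range fun m : Γ(G, U) => (σ.app U m : Γ(F, U)),
        (1 : C ⊗[R] S') ⊗ₜ[Γ(Y, U)] m = 0) ↔ _ from Set.forall_mem_range]
    refine Iff.trans ?_ (pullback_SpecMap_eq_zero_iff σ hU φ)
    rw [← he]
    exact ⟨H8Coh.pullback_map_comp_eq_zero σ e.inv _, fun h =>
      H8Coh.pullback_congr_eq_zero σ (e.hom_inv_id_assoc _) (H8Coh.pullback_map_comp_eq_zero σ e.hom _ h)⟩

theorem comap_residueField {A : Type u} [CommRing A] (p : Ideal A) [hp : p.IsPrime]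
    (Q : PrimeSpectrum p.ResidueField) :
    PrimeSpectrum.comap (algebraMap A p.ResidueField) Q = ⟨p, hp⟩ := by
  refine PrimeSpectrum.ext ?_
  show Q.asIdeal.comap (algebraMap A p.ResidueField) = p
  rw [Ideal.eq_bot_of_prime Q.asIdeal, ← RingHom.ker_eq_comap_bot, Ideal.ker_algebraMap_residueField]

/-- Charts exist at every point of a fibre. -/
theorem exists_isChart [Coh.IsQCoh G] [Coh.IsQCoh F] [LocallyOfFinitePresentation q]
    (hFfp : CohB1.IsFP F) (hFfl : FlatMod.IsFlatOver q F) {W : S.Opens} (hW : IsAffineOpen W)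
    (p : PrimeSpectrum Γ(S, W))
    (z : ↥(pullback q (aR hW.fromSpec p.asIdeal.ResidueField))) :
    ∃ (R : Type u) (_ : CommRing R) (_ : Algebra Γ(S, W) R) (_ : Algebra.Etale Γ(S, W) R)
      (ε : R →ₐ[Γ(S, W)] p.asIdeal.ResidueField)
      (O : (pullback q (aR hW.fromSpec R)).Opens) (I : Ideal R),
      IsChart q hW.fromSpec R σ O I ∧ ∃ hg, bc q hW.fromSpec (R := R)
        (CommRingCat.ofHom ε.toRingHom) (aR hW.fromSpec p.asIdeal.ResidueField) hg z ∈ O := by
  let κ := p.asIdeal.ResidueField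
  let a₀ := hW.fromSpec
  let y := pullback.fst q (aR a₀ κ) z
  have hy : q y = a₀ p := by
    show q (pullback.fst q (aR a₀ κ) z) = _
    rw [← Scheme.Hom.comp_apply, pullback.condition, Scheme.Hom.comp_apply, Scheme.Hom.comp_apply]
    refine congrArg a₀ ?_
    exact comap_residueField p.asIdeal _
  have hyW : y ∈ q ⁻¹ᵁ W := by
    show q y ∈ W
    rw [hy, ← SetLike.mem_coe, ← hW.range_fromSpec]
    exact ⟨_, rfl⟩
  obtain ⟨U, hU, hyU, e⟩ := exists_isAffineOpen_mem_and_subset (U := q ⁻¹ᵁ W) hyW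
  let φ := q.appLE W U e
  let _ : Algebra Γ(S, W) Γ(Y, U) := φ.hom.toAlgebra
  have : Algebra.FinitePresentation Γ(S, W) Γ(Y, U) := q.finitePresentation_appLE hW hU e
  let _ := EGA43.QcohFlat.overModule q F W U e
  have : IsScalarTower Γ(S, W) Γ(Y, U) Γ(F, U) :=
    IsScalarTower.of_algebraMap_smul fun _ _ => rfl
  have : Module.FinitePresentation Γ(Y, U) Γ(F, U) := EGA43.QcohFP.finitePresentation_sections F hFfp hU
  have : Module.Flat Γ(S, W) Γ(F, U) := (Props12.flat_sections_iff q F hW hU e).2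
    fun x _ => hFfl x
  let qq := (hU.primeIdealOf ⟨y, hyU⟩).asIdeal
  have hover : qq.LiesOver p.asIdeal := ⟨by
    have h := EGA43.InjFibre.comap_primeIdealOf q hW hU e hyU
    have hp : hW.primeIdealOf ⟨q y, e hyU⟩ = p := hW.fromSpec.isOpenEmbedding.injective
      ((hW.fromSpec_primeIdealOf _).trans hy)
    exact (congrArg PrimeSpectrum.asIdeal (h.trans hp)).symm⟩
  obtain ⟨R, S', _, _, _, _, _, _, _, _, p', q', _, _, hR, hS, ho, hproj⟩ :=
    FlatMorDevissage.exists_projective_nhd (R := Γ(S, W)) (S := Γ(Y, U)) Γ(F, U) p.asIdeal qq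
      (FlatMorDevissage.flatAt_of_flat Γ(F, U) qq)
  obtain ⟨hRe, hRo, hRb⟩ := id hR
  obtain ⟨hSe, hSo, hSb⟩ := id hS
  let c := Spec.map (CommRingCat.ofHom (algebraMap Γ(Y, U) S')) ≫ hU.fromSpec
  have hA : (algebraMap R S').comp (algebraMap Γ(S, W) R) =
      (algebraMap Γ(Y, U) S').comp φ.hom := by
    rw [← IsScalarTower.algebraMap_eq Γ(S, W) R S', IsScalarTower.algebraMap_eq Γ(S, W) Γ(Y, U) S']
    rfl
  have w : c ≫ q = Spec.map (CommRingCat.ofHom (algebraMap R S')) ≫ aR a₀ R := by
    rw [Category.assoc, ← hW.SpecMap_appLE_fromSpec q hU e, ← Spec.map_comp_assoc,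
      ← Spec.map_comp_assoc, ← CommRingCat.ofHom_comp, hA]
    rfl
  let ℓ := pullback.lift c (Spec.map (CommRingCat.ofHom (algebraMap R S'))) w
  have hce : Etale c := by
    have : Etale (Spec.map (CommRingCat.ofHom (algebraMap Γ(Y, U) S'))) :=
      (HasRingHomProperty.Spec_iff (P := @Etale)).2 (RingHom.etale_algebraMap.2 hSe)
    infer_instance
  have : Etale (aR a₀ R) := by
    have : Etale (Spec.map (CommRingCat.ofHom (algebraMap Γ(S, W) R))) :=
      (HasRingHomProperty.Spec_iff (P := @Etale)).2 (RingHom.etale_algebraMap.2 hRe)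
    infer_instance
  have : Etale ℓ := by
    refine MorphismProperty.of_postcomp (W := @Etale) (W' := @Etale) ℓ (pullback.fst q (aR a₀ R))
      inferInstance ?_
    rw [pullback.lift_fst]
    exact hce
  obtain ⟨I, hI⟩ := isChart_range q a₀ σ hU S' ℓ (pullback.lift_fst _ _ _) (pullback.lift_snd _ _ _)
  -- the map to the residue field
  let m := Ideal.ResidueField.mapₐ p.asIdeal p' (Algebra.ofId Γ(S, W) R) hRo.over
  let eκ : κ ≃ₐ[Γ(S, W)] p'.ResidueField := AlgEquiv.ofBijective m hRb
  let ε : R →ₐ[Γ(S, W)] κ :=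
    eκ.symm.toAlgHom.comp (IsScalarTower.toAlgHom Γ(S, W) R p'.ResidueField)
  have hg : Spec.map (CommRingCat.ofHom ε.toRingHom) ≫ aR a₀ R = aR a₀ κ := by
    rw [← Spec.map_comp_assoc, ← CommRingCat.ofHom_comp]
    exact congrArg (fun t => Spec.map (CommRingCat.ofHom t) ≫ a₀) ε.comp_algebraMap
  refine ⟨R, inferInstance, inferInstance, hRe, ε, _, I, hI, hg, ?_⟩
  let K := q'.ResidueField
  let m' := Ideal.ResidueField.mapₐ p' q' (Algebra.ofId R S') ho.over
  let v : CommRingCat.of κ ⟶ CommRingCat.of K :=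
    CommRingCat.ofHom (m'.toRingHom.comp eκ.toAlgHom.toRingHom)
  have hvε : CommRingCat.ofHom ε.toRingHom ≫ v =
      CommRingCat.ofHom (algebraMap R S') ≫ CommRingCat.ofHom (algebraMap S' K) := by
    refine CommRingCat.hom_ext (RingHom.ext fun r => ?_)
    show m' (eκ (eκ.symm (algebraMap R p'.ResidueField r))) = algebraMap S' K (algebraMap R S' r)
    rw [AlgEquiv.apply_symm_apply, m'.commutes]
    exact IsScalarTower.algebraMap_apply R S' K r
  have hvA : (Spec.map (CommRingCat.ofHom (algebraMap S' K)) ≫ c) ≫ q = Spec.map v ≫ aR a₀ κ := by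
    rw [← hg, ← Category.assoc (Spec.map v), ← Spec.map_comp, hvε, Spec.map_comp, Category.assoc, w,
      Category.assoc]
  let zK : Spec (CommRingCat.of K) ⟶ pullback q (aR a₀ κ) := pullback.lift _ (Spec.map v) hvA
  let k₀ : Spec (CommRingCat.of K) := (⊥ : PrimeSpectrum K)
  have hfib : zK ≫ bc q a₀ (CommRingCat.ofHom ε.toRingHom) (aR a₀ κ) hg =
      Spec.map (CommRingCat.ofHom (algebraMap S' K)) ≫ ℓ := by
    apply pullback.hom_ext
    · rw [Category.assoc, Category.assoc, pullback.lift_fst, pullback.lift_fst, pullback.lift_fst]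
    · rw [Category.assoc, Category.assoc, pullback.lift_snd, pullback.lift_snd, ← Category.assoc,
        pullback.lift_snd, ← Spec.map_comp, ← Spec.map_comp, hvε]
  have hk₀ : pullback.fst q (aR a₀ κ) (zK k₀) = y := by
    rw [← Scheme.Hom.comp_apply, pullback.lift_fst, Scheme.Hom.comp_apply, Scheme.Hom.comp_apply]
    refine (congrArg hU.fromSpec ?_).trans (hU.fromSpec_primeIdealOf ⟨y, hyU⟩)
    refine PrimeSpectrum.ext ?_
    show Ideal.comap (algebraMap Γ(Y, U) S') (Ideal.comap (algebraMap S' K) _) = qq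
    rw [hSo.over]
    refine congrArg (Ideal.comap (algebraMap Γ(Y, U) S')) ?_
    exact congrArg PrimeSpectrum.asIdeal (comap_residueField q' k₀)
  have : IsPreimmersion (Spec.map (CommRingCat.ofHom (algebraMap Γ(S, W) κ))) :=
    IsPreimmersion.mk_SpecMap (Topology.IsEmbedding.of_subsingleton _)
      p.asIdeal.surjectiveOnStalks_residueField
  have : IsPreimmersion (pullback.fst q (aR a₀ κ)) :=
    MorphismProperty.pullback_fst _ _ inferInstance
  have hz : zK k₀ = z := (pullback.fst q (aR a₀ κ)).isEmbedding.injective hk₀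
  rw [← hz]
  show bc q a₀ (CommRingCat.ofHom ε.toRingHom) (aR a₀ κ) hg (zK k₀) ∈ Set.range ℓ
  rw [← Scheme.Hom.comp_apply, hfib]
  exact ⟨_, rfl⟩

end Groth.Agent.Vanish28
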